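import Mathlib
import Cfsg.Prelude.Def_Characters
import Cfsg.Prelude.Def_Blocks
import Cfsg.Prelude.Def_DegreeGraph
import Cfsg.Prelude.Def_Solvable

/-!
# Project CD3 (S4460): three character degrees => derived length at most 3.
Definitions shared by all pieces.  See PLAN.md and Skel.lean.txt in this folder.
-/

set_option autoImplicit false
open scoped commutatorElement

namespace Cfsg.Agent.Lib.Helper28.CD3

universe u

/-- Induction hypothesis: the theorem holds for all groups (in universe `u`) of order `< n`. -/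
def Below (n : ℕ) : Prop :=
  ∀ (H : Type u) [Group H] [Finite H], Nat.card H < n →
    (Cfsg.charDegrees H).ncard ≤ 3 → derivedSeries H 3 = ⊥

/-- Degrees of the irreducible characters of `G` whose kernel contains `N`
(`= cd(G/N)` for normal `N`). -/
def cdOver {G : Type u} [Group G] (N : Subgroup G) : Set ℕ :=
  {d | ∃ χ : Cfsg.IrrCharacter G, (∀ x ∈ N, (χ : G → ℂ) x = (χ : G → ℂ) 1) ∧
    Cfsg.charDegree (χ : G → ℂ) = d}

/-- Conjugate of a function on a normal subgroup (same as `Helper11.cj`). -/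
def cjf {G : Type u} [Group G] (N : Subgroup G) [hN : N.Normal] (ψ : N → ℂ) (g : G) : N → ℂ :=
  fun h => ψ ⟨g * h * g⁻¹, hN.conj_mem h h.2 g⟩

/-- Twist of a function on `N` by a linear character of `N`. -/
def tw {G : Type u} [Group G] (N : Subgroup G) (l : N →* ℂˣ) (ψ : N → ℂ) : N → ℂ :=
  fun x => ((l x : ℂˣ) : ℂ) * ψ x

/-- Stabilizer in `G` of a linear character of the normal subgroup `F`. -/
def linStab {G : Type u} [Group G] (F : Subgroup G) [hF : F.Normal] (l : F →* ℂˣ) : Subgroup G where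
  carrier := {g | ∀ x : F, l ⟨g * x * g⁻¹, hF.conj_mem x x.2 g⟩ = l x}
  one_mem' := by
    intro x
    congr 1
    apply Subtype.ext
    simp
  mul_mem' := by
    intro a b ha hb x
    have h1 := ha ⟨b * x * b⁻¹, hF.conj_mem x x.2 b⟩
    have h2 := hb x
    rw [← h2, ← h1]
    congr 1
    apply Subtype.ext
    simp [mul_assoc]
  inv_mem' := by
    intro a ha x
    have h1 := ha ⟨a⁻¹ * x * a⁻¹⁻¹, hF.conj_mem x x.2 a⁻¹⟩
    rw [← h1]
    congr 1
    apply Subtype.ext
    simp [mul_assoc]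

/-- `G` is a minimal counterexample with `cd(G) = {1, m, n}`. -/
structure MinCE (G : Type u) [Group G] [Finite G] (m n : ℕ) : Prop where
  hm : 1 < m
  hmn : m < n
  hcd : Cfsg.charDegrees G = {1, m, n}
  hne : derivedSeries G 3 ≠ ⊥
  hmin : ∀ N : Subgroup G, N.Normal → N ≠ ⊥ → derivedSeries G 3 ≤ N
  hsub : ∀ N : Subgroup G, N ≠ ⊤ → (Cfsg.charDegrees N).ncard ≤ 3 → derivedSeries N 3 = ⊥

/-- Data of the solvable case: `F = F(G) = O_q(G)` is self-centralizing, `O_{q'}(G) = 1`. -/
structure BData (G : Type u) [Group G] [Finite G] (m n q : ℕ) (F : Subgroup G) : Prop where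
  hce : MinCE G m n
  hs : Group.IsSolvable G
  hq : q.Prime
  hFn : F.Normal
  hFq : IsPGroup q F
  hFfit : F = Cfsg.fittingSubgroup G
  hFcent : Subgroup.centralizer (F : Set G) ≤ F
  hFmax : ∀ N : Subgroup G, N.Normal → IsPGroup q N → N ≤ F
  hq' : ∀ N : Subgroup G, N.Normal → (Nat.card N).Coprime q → N = ⊥

/-- Frobenius-type quotient data: `K < N` normal in `G`, `N/K` an abelian `p`-group on which
every element outside `N` acts fixed-point-freely, `p ∤ |G:N|`, `G/N` abelian. -/
structure FrobData (G : Type u) [Group G] [Finite G] (K N : Subgroup G) (p : ℕ) : Prop where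
  hKn : K.Normal
  hNn : N.Normal
  hKN : K < N
  hGN : commutator G ≤ N
  hp : p.Prime
  hidx : ∃ a : ℕ, 0 < a ∧ K.relIndex N = p ^ a
  hpN : ¬ p ∣ N.index
  hab : ∀ x ∈ N, ∀ y ∈ N, ⁅x, y⁆ ∈ K
  hfpf : ∀ g : G, g ∉ N → ∀ x ∈ N, ⁅g, x⁆ ∈ K → x ∈ K
  hN1 : 1 < N.index
  hNcd : N.index ∈ cdOver K

end Cfsg.Agent.Lib.Helper28.CD3
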