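import Mathlib
import Cfsg.Agent.Lib.Helper28.CD3.Defs
import Cfsg.Agent.Lib.helper2.CD3PQcore
import Cfsg.Agent.Lib.helper2.CD3QDICHcore
import Cfsg.Agent.Lib.Helper10.CD3PQ1
import Cfsg.Agent.Lib.Helper10.CD3OVER
import Cfsg.Agent.Lib.helper23.CD3OVERQ
import Cfsg.Agent.Lib.helper23.CD3DERQ
import Cfsg.Agent.Lib.Helper9.CD3DICH1
import Cfsg.Agent.Lib.Helper19.CD3DICH2
import Cfsg.Agent.Lib.Helper19.CD3BG
import Cfsg.Agent.Lib.Helper19.CD3BFAB
import Cfsg.Agent.Lib.Helper20.CD3FROB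
import Cfsg.Agent.Lib.Helper21.CD3ITOQcore
import Cfsg.Agent.Lib.Helper22.CD3APGcore
import Cfsg.Agent.Lib.Helper22.CD3AFRcore
import Cfsg.Agent.Lib.Helper22.CD3NSPcore
import Cfsg.Agent.Lib.Helper22.CD3NSFcore
import Cfsg.Agent.Lib.Helper25.CD3QDIV

/-!
# CD3: the seven wrapper pieces (PQ, QDICH, APG, AFR, ITOQ, NSP, NSF) from their landed cores,
under `cd3w_` names (no clash with the owners' verbatim wrappers).
-/

set_option autoImplicit false
open scoped commutatorElement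

namespace Cfsg.Agent.Lib.Helper28.CD3

universe u

section
variable {G : Type u} [Group G] [Finite G]

theorem cd3w_pquot_degree (p : ℕ) (hp : p.Prime) (K : Subgroup G) [K.Normal] (hK : IsPGroup p (G ⧸ K))
    (hna : ¬ commutator G ≤ K) (χ : Cfsg.IrrCharacter G)
    (hχ : ¬ p ∣ Cfsg.charDegree (χ : G → ℂ)) :
    ∃ f : ℕ, 1 < f ∧ f ∈ cdOver K ∧ f * Cfsg.charDegree (χ : G → ℂ) ∈ Cfsg.charDegrees G :=
  cd3pq_core K χ (restrict_irr_of_pquot p hp K hK χ hχ) (exists_nonlinear_over K hna)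

theorem cd3w_quot_dichotomy (K : Subgroup G) [K.Normal] (hsolv : Group.IsSolvable (G ⧸ K))
    (hK : ¬ commutator G ≤ K)
    (hmax : ∀ N : Subgroup G, N.Normal → K < N → commutator G ≤ N) :
    (∃ p : ℕ, p.Prime ∧ IsPGroup p (G ⧸ K)) ∨ (∃ (N : Subgroup G) (p : ℕ), FrobData G K N p) :=
  cd3qdich_core K (fun X _ _ hs hna hq => dich_group X hs hna hq)
    (fun X _ _ D _ hD hab hfpf => dich_degree X D hD hab hfpf) (cdOver_eq_quot K) hsolv hK hmax

theorem cd3w_partA_pgroup {m n : ℕ} (h : MinCE G m n) (hcop : Nat.Coprime m n)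
    (K : Subgroup G) [K.Normal] (hK : ¬ commutator G ≤ K) (p : ℕ) (hp : p.Prime)
    (hpK : IsPGroup p (G ⧸ K)) : False :=
  cd3apg_core h hcop K hK p hp hpK (fun χ hχ => cd3w_pquot_degree p hp K hpK hK χ hχ)
    (cdOver_subset K) (fun d hd => cdOver_dvd_index K hd)

theorem cd3w_partA_frob {m n : ℕ} (h : MinCE G m n) (hns : ¬ Group.IsSolvable G)
    (hcop : Nat.Coprime m n) (K N : Subgroup G) (p : ℕ) (hF : FrobData G K N p) : False := by
  have := hF.hKn
  have := hF.hNn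
  exact cd3afr_core h hns hcop K N p hF
    (fun ψ => frob_degree K N hF.hKN.le hF.hab hF.hfpf ψ) (fun θ => over_exists N θ)
    (cdOver_subset K) (fun h1 h2 => derived_of_sub N 1 3 h1 h2)

theorem cd3w_q_dvd_m {m n q : ℕ} {F : Subgroup G} (h : BData G m n q F) (hqF : q ∣ F.index) :
    q ∣ m ∧ ¬ q ∣ n :=
  cd3itoq_core h hqF (bg_quot h) (fun N _ => cdOver_eq_quot N) (q_dvd_one h)

theorem cd3w_nonsyl_pgroup {m n q : ℕ} {F : Subgroup G} (h : BData G m n q F) (hqF : q ∣ F.index)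
    (K : Subgroup G) [K.Normal] (hFK : F ≤ K) (hK : ¬ commutator G ≤ K) (p : ℕ) (hp : p.Prime)
    (hpK : IsPGroup p (G ⧸ K)) : False :=
  cd3nsp_core h K hFK hK p hp hpK (cd3w_q_dvd_m h hqF) (exists_nonlinear_over K hK) (cdOver_mono hFK)
    (fun d hd => cdOver_dvd_index K hd) (fun χ hχ => cd3w_pquot_degree p hp K hpK hK χ hχ)

theorem cd3w_nonsyl_frob {m n q : ℕ} {F : Subgroup G} (h : BData G m n q F) (hqF : q ∣ F.index)
    (K N : Subgroup G) (hFK : F ≤ K) (p : ℕ) (hFr : FrobData G K N p) : False := by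
  have := hFr.hKn
  have := hFr.hNn
  exact cd3nsf_core h K N hFK p hFr (cd3w_q_dvd_m h hqF) (cdOver_mono hFK) (F_not_abelian h)
    (fun ψ => frob_degree K N hFr.hKN.le hFr.hab hFr.hfpf ψ)

end

end Cfsg.Agent.Lib.Helper28.CD3
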