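import Mathlib
import Cfsg.Agent.Lib.Helper28.CD3.Defs
import Cfsg.Agent.Lib.Helper28.CD3.Wrap
import Cfsg.Agent.Lib.Helper28.CD3FORM
import Cfsg.Agent.Lib.Helper28.CD3SMALL
import Cfsg.Agent.Lib.Helper28.CD3START
import Cfsg.Agent.Lib.Helper28.CD3RHO
import Cfsg.Agent.Lib.helper2.CD3COP
import Cfsg.Agent.Lib.Helper16.CD3FAITH
import Cfsg.Agent.Lib.Helper16.CD3FIT
import Cfsg.Agent.Lib.helper23.CD3MAXK
import Cfsg.Agent.Lib.helper23.CD3DERQ
import Cfsg.Agent.Lib.helper23.CD3SYLA
import Cfsg.Agent.Lib.helper23.CD3SYLB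
import Cfsg.Agent.Lib.Helper21.CD3NSNA

/-!
# Project CD3: a finite group with exactly three character degrees has derived length at most 3.
Top-level assembly (Isaacs, Character theory of finite groups, Theorem 12.15, with the nonsolvable
case handled by Thompson's theorem and a regular-character argument).  See PLAN.md.
-/

set_option autoImplicit false
open scoped commutatorElement

namespace Cfsg.Agent.Lib.Helper28.CD3

universe u

/-! ## Top-level assembly (lead) -/

section assembly
variable {G : Type u} [Group G] [Finite G]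

theorem partA {m n : ℕ} (h : MinCE G m n) (hns : ¬ Group.IsSolvable G) : False := by
  have hcop := coprime_mn h hns
  by_cases hc : commutator G ≤ derivedSeries G 3
  · exact rho_trick h.hm h.hmn hcop h.hcd (fun χ hχ => faithful_of_commutator_le h hc χ hχ)
  · obtain ⟨K, hKn, hLK, hK, hmax⟩ := exists_maxK (derivedSeries G 3) hc
    have := hKn
    have hsolvK : Group.IsSolvable (G ⧸ K) := ⟨⟨3, derived_quot_of_le K 3 hLK⟩⟩
    rcases cd3w_quot_dichotomy K hsolvK hK hmax with ⟨p, hp, hpK⟩ | ⟨N, p, hF⟩
    · exact cd3w_partA_pgroup h hcop K hK p hp hpK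
    · exact cd3w_partA_frob h hns hcop K N p hF

theorem partB {m n : ℕ} (h : MinCE G m n) (hs : Group.IsSolvable G) : False := by
  obtain ⟨q, F, hB⟩ := fitting_facts h hs
  have := hB.hFn
  by_cases hsyl : q ∣ F.index
  · have hnab := nonsyl_nonab hB hsyl
    obtain ⟨K, hKn, hFK, hK, hmax⟩ := exists_maxK F hnab
    have := hKn
    have := hs
    have hsolvK : Group.IsSolvable (G ⧸ K) := inferInstance
    rcases cd3w_quot_dichotomy K hsolvK hK hmax with ⟨p, hp, hpK⟩ | ⟨N, p, hFr⟩
    · exact cd3w_nonsyl_pgroup hB hsyl K hFK hK p hp hpK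
    · exact cd3w_nonsyl_frob hB hsyl K N hFK p hFr
  · by_cases hab : commutator G ≤ F
    · exact syl_ab hB hsyl hab
    · exact syl_nonab hB hsyl hab

theorem step (hIH : Below.{u} (Nat.card G)) (hcd : (Cfsg.charDegrees G).ncard ≤ 3) :
    derivedSeries G 3 = ⊥ := by
  by_cases h2 : (Cfsg.charDegrees G).ncard ≤ 2
  · have h := dl_of_ncard_le_two h2
    rw [derivedSeries_succ, h]
    exact Subgroup.commutator_bot_left ⊥
  · have h3 : (Cfsg.charDegrees G).ncard = 3 := by omega
    by_contra hne
    obtain ⟨m, n, hce⟩ := minCE_of_counter hIH h3 hne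
    by_cases hs : Group.IsSolvable G
    · exact partB hce hs
    · exact partA hce hs

theorem main_below : ∀ n : ℕ, Below.{u} n := by
  intro n
  induction n using Nat.strong_induction_on with
  | _ n ih =>
    intro H _ _ hH hcd
    exact step (ih _ hH) hcd

theorem main (G : Type u) [Group G] [Finite G] (hcd : (Cfsg.charDegrees G).ncard = 3) :
    derivedSeries G 3 = ⊥ :=
  step (main_below _) hcd.le

end assembly

end Cfsg.Agent.Lib.Helper28.CD3
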